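import Cfsg.Agent.Mrg.Omega.EK3.QL.Base
import Cfsg.Agent.Mrg.Omega.EK3.Q.Split
import Cfsg.Agent.Mrg.Omega.OM.SWQ.CaseTwoD


/-!
# `TI (Z i)` over `MulX.MulL`, `k = 2`, `q > 2`, from (T1) and NoW (bb #26529, #26703 (3))

* `NoWL` : the literal of 509 #26529: weird minimal parabolics over a Sylow 2-subgroup of `C_G(D)`, `D ≤ Z i`;
* `exists_swap` : `S` permutes the `Z i` transitively and normalises `T*`;
* `syl_TS` : `T*` is a Sylow 2-subgroup of `H`, if `T* ≤ H` and the 2-groups over `B` in `H` normalise all `Z l`;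
* `exists_tor` : an involution of `Z i` is conjugate under `L i ⊓ N_G(B)` into `C(T*)`;
* **`ti_two`**.
-/

set_option autoImplicit false
set_option linter.unusedSectionVars false

namespace Cfsg.Agent.Omega.EK3.QX

open Subgroup Cfsg Cfsg.Agent.ZN.ChoiceBase
open Cfsg.Agent.ZN (jj zj bau zc zl o2)
open Cfsg.Agent.ZN.ChoiceSit (Syl exists_syl syl_conj le_o2 o2_le_syl isPGroup_o2 le_normalizer_o2)
open Cfsg.Agent.MinSimple.MinParabolic (IsMinPar)
open Cfsg.Agent.Omega.NO3S.EThree.Frame (Bg TI)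
open Cfsg.Agent.Omega.Node.MulX
open Cfsg.Agent.Omega.EK3.Q (TStar mem_TStar fixZ exists_cj_TS B_le_TStar TOne)

universe u

variable {G : Type u} [Group G] [Finite G] {S : Sylow 2 G} {P B ZJ : Subgroup G}

/-- **NoW** for the centralisers of the `D ≤ Z i`, `k = 2`. -/
def NoWL (S : Sylow 2 G) (P B : Subgroup G) (Z : Fin 2 → Subgroup G) : Prop :=
  ∀ i j : Fin 2, i ≠ j → ∀ D ≤ Z i, D ≠ ⊥ → ∀ T R : Subgroup G, B ≤ T → T ≤ (S : Subgroup G) →
    Syl T (centralizer (D : Set G)) → IsMinPar T R → R ≤ centralizer (D : Set G) →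
    R ⊓ centralizer (o2 R : Set G) ≤ o2 R →
    ¬ R ≤ centralizer ((Z j ⊓ centralizer (T : Set G) : Subgroup G) : Set G) →
    (∀ F ≤ Z i ⊓ centralizer (T : Set G), F ⊓ centralizer (R : Set G) = ⊥ →
      Nat.card F < Nat.card ↥(Z j ⊓ centralizer (T : Set G) : Subgroup G)) → o2 P ≤ o2 R

section k

variable {k : ℕ} {L W Z C : Fin k → Subgroup G} {q : ℕ}

/-- `S` permutes the `Z i` transitively and normalises `T*`. -/
theorem exists_swap (h : Bg S P B ZJ L W Z C q) (i j : Fin k) :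
    ∃ s ∈ (S : Subgroup G), cj s (Z i) = Z j ∧ cj s (TStar S W) = TStar S W := by
  obtain ⟨s, hs, e⟩ := h.trans i j
  refine ⟨s, hs, (h.cj_Z_iff hs).2 e, ?_⟩
  refine Subgroup.eq_of_le_of_card_ge ?_ (by rw [card_cj])
  intro t ht
  have ht' : s⁻¹ * t * s ∈ TStar S W := mem_cj.1 ht
  refine (mem_TStar h).2 ⟨?_, fun l => ?_⟩
  · have h1 := mul_mem (mul_mem hs ((mem_TStar h).1 ht').1) (inv_mem hs)
    have e1 : s * (s⁻¹ * t * s) * s⁻¹ = t := by group
    rwa [e1] at h1
  · obtain ⟨m, hm, -⟩ := (h.nrm s⁻¹ (inv_mem (h.S_norm_B hs))).2 l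
    have h1 : Z l = cj s (Z m) := by rw [← hm, cj_cj_inv]
    rw [h1, ← cj_normalizer, mem_cj]
    exact ((mem_TStar h).1 ht').2 m

/-- `|C_{Z i}(T*)| = |C_{Z j}(T*)|` -/
theorem card_fix (h : Bg S P B ZJ L W Z C q) (i j : Fin k) :
    Nat.card ↥(Z i ⊓ centralizer (TStar S W : Set G) : Subgroup G) =
      Nat.card ↥(Z j ⊓ centralizer (TStar S W : Set G) : Subgroup G) := by
  obtain ⟨s, -, e1, e2⟩ := exists_swap h i j
  have h1 : Z j ⊓ centralizer (TStar S W : Set G) = cj s (Z i ⊓ centralizer (TStar S W : Set G)) := by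
    rw [cj_inf, cj_centralizer, e1, e2]
  rw [h1, card_cj]

/-- `T*` is a Sylow 2-subgroup of `H`, if the 2-groups over `B` in `H` normalise all `Z l`. -/
theorem syl_TS (h : Bg S P B ZJ L W Z C q) {H : Subgroup G} (hle : TStar S W ≤ H)
    (hn : ∀ T ≤ H, IsPGroup 2 T → B ≤ T → ∀ l, T ≤ normalizer (Z l : Set G)) : Syl (TStar S W) H := by
  refine ⟨hle, S.isPGroup'.to_le inf_le_left, fun T hT h2 hTT => ?_⟩
  have hBT : B ≤ T := (B_le_TStar h).trans hTT
  obtain ⟨n, -, hn⟩ := exists_cj_TS h h2 hBT (hn T hT h2 hBT)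
  exact (Subgroup.eq_of_le_of_card_ge hTT (by rw [← card_cj n T]; exact Subgroup.card_le_of_le hn)).symm

/-- a fixed point of `T*` on `Z i` -/
theorem exists_fixTS (h : Bg S P B ZJ L W Z C q) (i : Fin k) :
    ∃ z ∈ Z i, z ≠ 1 ∧ z ∈ centralizer (TStar S W : Set G) := by
  obtain ⟨v, hv, hv1, hvT⟩ := NO3S.EMany.Four.exists_fix (S.isPGroup'.to_le inf_le_left) (h.Z_two i) (h.Z_ne i)
    (P := TStar S W) fun t ht v hv => (mem_normalizer_iff.1 (((mem_TStar h).1 ht).2 i) v).1 hv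
  refine ⟨v, hv, hv1, mem_centralizer_iff.2 fun t ht => ?_⟩
  have h2 := hvT t ht
  calc t * v = t * v * t⁻¹ * t := by group
    _ = v * t := by rw [h2]

/-- The involutions of `Z i` are conjugate under `N_G(B) ⊓ N_G(Z i)` (and a conjugating element exists in `L i`). -/
theorem exists_tor (h : Bg S P B ZJ L W Z C q) {i : Fin k} {z z' : G} (hz : z ∈ Z i) (hz1 : z ≠ 1) (hz' : z' ∈ Z i)
    (hz1' : z' ≠ 1) : ∃ t ∈ L i, t ∈ normalizer (B : Set G) ∧ t ∈ normalizer (Z i : Set G) ∧ t * z * t⁻¹ = z' := by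
  obtain ⟨t, htL, htB, ht⟩ := h.tor i hz hz1 hz' hz1'
  refine ⟨t, htL, htB, ?_, ht⟩
  rw [mem_normalizer_iff_cj]
  refine Subgroup.eq_of_le_of_card_ge ?_ (by rw [card_cj])
  rintro _ ⟨v, hv, rfl⟩
  exact h.L_inf_norm i htL htB hv

/-- **`TI (Z i)` from the centralisers of the fixed points of `T*`.** -/
theorem ti_of_fix (h : Bg S P B ZJ L W Z C q) {i : Fin k}
    (hc : ∀ z ∈ Z i, z ≠ 1 → z ∈ centralizer (TStar S W : Set G) →
      centralizer ({z} : Set G) ≤ normalizer (Z i : Set G)) : TI (Z i) := by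
  obtain ⟨z', hz', hz1', hzT⟩ := exists_fixTS h i
  have h1 := hc z' hz' hz1' hzT
  refine OM.SWQ.ti_of_cent h fun z hz hz1 => ?_
  obtain ⟨t, -, -, htZ, ht⟩ := exists_tor h hz hz1 hz' hz1'
  intro x hx
  have hx' : x * z = z * x := mem_centralizer_singleton_iff.1 hx
  have h2 : t * x * t⁻¹ ∈ centralizer ({z'} : Set G) := by
    rw [mem_centralizer_singleton_iff, ← ht]
    calc t * x * t⁻¹ * (t * z * t⁻¹) = t * (x * z) * t⁻¹ := by group
      _ = t * z * t⁻¹ * (t * x * t⁻¹) := by rw [hx']; group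
  have h3 := mul_mem (mul_mem (inv_mem htZ) (h1 h2)) htZ
  have e : t⁻¹ * (t * x * t⁻¹) * t = x := by group
  rwa [e] at h3

end k

section two

variable {L W Z C A : Fin 2 → Subgroup G} {q : ℕ}

/-- A 2-group over `B` centralising an involution of `Z i` normalises all `Z l` (`k = 2`). -/
theorem norm_two (h : Bg S P B ZJ L W Z C q) {T : Subgroup G} (hT : IsPGroup 2 T) (hB : B ≤ T) {i : Fin 2} {z : G}
    (hz : z ∈ Z i) (hz1 : z ≠ 1) (hc : ∀ t ∈ T, t * z = z * t) (l : Fin 2) : T ≤ normalizer (Z l : Set G) := by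
  intro t ht
  have htB : t ∈ normalizer (B : Set G) := h.le_norm_B hT hB ht
  have hti : t ∈ normalizer (Z i : Set G) := fixZ h (h.norm_ZJ htB) hz hz1 (hc t ht)
  by_cases hli : l = i
  · rw [hli]; exact hti
  · obtain ⟨m, hm, -⟩ := (h.nrm t htB).2 l
    have hml : m = l := by
      by_contra hml
      have hmi : m = i := by
        have key : ∀ a b c : Fin 2, a ≠ b → c ≠ a → c = b := by decide
        exact key l i m hli hml
      have h1 : cj t (Z l) = cj t (Z i) := by rw [hm, hmi, mem_normalizer_iff_cj.1 hti]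
      have h2 : cj t⁻¹ (cj t (Z l)) = cj t⁻¹ (cj t (Z i)) := by rw [h1]
      rw [cj_inv_cj, cj_inv_cj] at h2
      exact hli (h.Z_inj h2)
    rw [mem_normalizer_iff_cj, hm, hml]

/-- **`TI (Z i)` over the case (L) of GammaFF, `k = 2`**, from (T1) and NoW. -/
theorem ti_two (h : MulL S P B ZJ L W Z C A q) (hq : 4 ≤ q) (t1 : TOne ZJ Z) (hW : NoWL S P B Z) :
    ∀ i, TI (Z i) := by
  intro i
  refine ti_of_fix h.bg fun z hz hz1 hzT => ?_
  have hbg := h.bg
  obtain ⟨j, hji⟩ := hbg.two i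
  have hcov : ∀ l : Fin 2, l ≠ i → l = j := by
    have key : ∀ a b c : Fin 2, b ≠ a → c ≠ a → c = b := by decide
    exact fun l hl => key i j l hji hl
  set T : Subgroup G := TStar S W with hTdef
  have hBT : B ≤ T := B_le_TStar hbg
  have hTS : T ≤ (S : Subgroup G) := inf_le_left
  set Y₀ : Subgroup G := zpowers z with hY₀
  have hzY : z ∈ Y₀ := mem_zpowers z
  have hYZ : Y₀ ≤ Z i := by rw [hY₀, zpowers_le]; exact hz
  have hYJ : Y₀ ≤ ZJ := hYZ.trans (hbg.fr.Z_le i)
  have hYne : Y₀ ≠ ⊥ := by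
    intro e
    rw [e, mem_bot] at hzY
    exact hz1 hzY
  have hcY : centralizer (Y₀ : Set G) = centralizer ({z} : Set G) := by
    rw [hY₀]
    refine le_antisymm (centralizer_le (by rw [Set.singleton_subset_iff]; exact mem_zpowers z)) ?_
    rw [le_centralizer_iff, zpowers_le, mem_centralizer_iff]
    intro x hx
    exact mem_centralizer_singleton_iff.1 hx
  have hcz : ∀ x ∈ centralizer (Y₀ : Set G), x * z = z * x := fun x hx =>
    mem_centralizer_singleton_iff.1 (hcY ▸ hx)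
  have hfix : ∀ x ∈ centralizer (Y₀ : Set G), x ∈ normalizer (ZJ : Set G) → x ∈ normalizer (Z i : Set G) :=
    fun x hx hxJ => fixZ hbg hxJ hz hz1 (hcz x hx)
  have hTC : T ≤ centralizer (Y₀ : Set G) := by
    rw [hcY]
    intro t ht
    exact mem_centralizer_singleton_iff.2 (mem_centralizer_iff.1 hzT t ht)
  have hTsyl : Syl T (centralizer (Y₀ : Set G)) := syl_TS hbg hTC fun T' hT' h2 hB l =>
    norm_two hbg h2 hB hz hz1 (fun t ht => hcz t (hT' ht)) l
  rw [← hcY]
  refine QL.cent_le h (by omega) hYJ hYne hTsyl hBT (fun x hx => hfix x hx.1 hx.2) ?_ ?_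
  · intro R hR hTR hcR hRY hwq
    -- `R` centralises an element of `Z j` fixed by `T`
    have hcen : ∀ x ∈ Z j, x ≠ 1 → (∀ r ∈ R, r * x = x * r) → R ≤ normalizer (Z i : Set G) := by
      intro x hx hx1 hxR
      have h3 : R ≤ normalizer (ZJ : Set G) := by
        refine le_trans ?_ (t1 (ZJ ⊓ centralizer (R : Set G)) inf_le_left fun l => ?_)
        · rw [le_centralizer_iff]
          exact inf_le_right
        · by_cases hl : l = i
          · subst hl
            exact ⟨z, hz, hz1, mem_inf.2 ⟨hbg.fr.Z_le l hz, mem_centralizer_iff.2 fun r hr => hcz r (hRY hr)⟩⟩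
          · obtain rfl := hcov l hl
            exact ⟨x, hx, hx1, mem_inf.2 ⟨hbg.fr.Z_le l hx, mem_centralizer_iff.2 fun r hr => hxR r hr⟩⟩
      exact fun r hr => hfix r (hRY hr) (h3 hr)
    obtain ⟨x, hx, hx1, hxT⟩ := exists_fixTS hbg j
    by_cases hRj : R ≤ centralizer ((Z j ⊓ centralizer (T : Set G) : Subgroup G) : Set G)
    · exact hcen x hx hx1 fun r hr => (mem_centralizer_iff.1 (hRj hr) x (mem_inf.2 ⟨hx, hxT⟩)).symm
    · rcases hwq with hqt | hwd
      · refine absurd (fun r hr => mem_centralizer_iff.2 fun y hy => ?_) hRj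
        refine mem_centralizer_iff.1 (hqt hr) y (mem_zc.2 ⟨?_, ?_, ?_⟩)
        · exact hBT ((hbg.fr.blk j).VB ((hbg.fr.blk j).ZV hy.1))
        · exact hbg.fr.Vsq (hbg.fr.ZV j hy.1)
        · exact fun t ht => mem_centralizer_iff.1 hy.2 t ht
      · refine absurd ?_ hwd
        refine hW i j (Ne.symm hji) Y₀ hYZ hYne T R hBT hTS hTsyl hR hRY hcR hRj fun F hF hFR => ?_
        rw [hTdef, ← card_fix hbg i j]
        refine lt_of_le_of_ne (Subgroup.card_le_of_le hF) fun e => ?_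
        have h4 : F = Z i ⊓ centralizer (T : Set G) := Subgroup.eq_of_le_of_card_ge hF e.ge
        have h5 : z ∈ F ⊓ centralizer (R : Set G) := by
          rw [h4]
          exact mem_inf.2 ⟨mem_inf.2 ⟨hz, hzT⟩, mem_centralizer_iff.2 fun r hr => hcz r (hRY hr)⟩
        rw [hFR, mem_bot] at h5
        exact hz1 h5
  · -- a block
    intro L' l hL' hc
    have hlj : l = j := by
      refine hcov l fun hli => ?_
      subst hli
      exact QL.not_mem_C hbg hz hz1 ((hc z (hbg.fr.Z_le l hz)).2 fun x hx => hcz x (hL' hx))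
    subst hlj
    refine le_trans ?_ (centralizer_le_normalizer (Z i : Set G))
    intro x hx
    refine mem_centralizer_iff.2 fun y hy => ?_
    exact ((hc y (hbg.fr.Z_le i hy)).1 (hbg.fr.WjC l i hji ((hbg.fr.blk i).ZV hy)) x hx).symm

end two

end Cfsg.Agent.Omega.EK3.QX
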